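import Groth.Agent.L13.FtLimit.Stage
import Groth.Agent.L19.Approx.FactorSystem

/-! Modulus pairs are limits of pairs of finite type. -/

set_option autoImplicit false
set_option linter.style.haveILetI false
set_option backward.isDefEq.respectTransparency false

universe u

open CategoryTheory CategoryTheory.Limits AlgebraicGeometry TopologicalSpace Opposite

namespace Groth.L13.FtLimit

open Groth.L22 Groth.L13.MP

variable {X S : Scheme.{u}} [CompactSpace S] [QuasiSeparatedSpace S]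

theorem exists_ft_limit (IS : S.IdealSheafData)
    (IX : X.IdealSheafData) (hX : BlowUp.IsEffCartierIdeal IX)
    (f : X ⟶ S) [QuasiCompact f] [IsSeparated f] (hf : ModPair.IsAmbient IX IS f) :
    ∃ (I : Type u) (_ : SmallCategory I) (_ : IsCofiltered I) (D : I ⥤ Over S) (c : Cone D)
      (_ : IsLimit c) (e : c.pt ≅ Over.mk f) (J : ∀ i, (D.obj i).left.IdealSheafData),
      (∀ i, BlowUp.IsEffCartierIdeal (J i)) ∧
      (∀ i, LocallyOfFiniteType (D.obj i).hom ∧ QuasiCompact (D.obj i).hom ∧ IsSeparated (D.obj i).hom) ∧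
      (∀ i, ModPair.IsAmbient (J i) IS (D.obj i).hom) ∧
      (∀ (i j : I) (t : i ⟶ j), IsAffineHom (D.map t).left ∧ ModPair.IsMinimal (J i) (J j) (D.map t).left ∧
          IsSchemeTheoreticallyDominant (D.map t).left) ∧
      (∀ i, IX = (J i).comap (e.inv.left ≫ (c.π.app i).left)) := by
  haveI : CompactSpace X := QuasiCompact.compactSpace_of_compactSpace f
  haveI : QuasiSeparatedSpace X := quasiSeparatedSpace_of_quasiSeparated f
  obtain ⟨M, g, a, hg, hMc, hMq, ha, hag⟩ := Groth.L19.Approx.affFactors f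
  haveI := hg; haveI := hMc; haveI := hMq; haveI := ha
  haveI : QuasiCompact g := quasiCompact_of_compactSpace g
  haveI : IsSeparated (a ≫ g) := hag ▸ ‹IsSeparated f›
  haveI := Groth.L19.Approx.isCofiltered_idx a
  let F := Groth.L19.Approx.factorSystem a g
  let D₀ := F ⋙ Over.forget S
  let c₀ : Cone D₀ := (Over.forget S).mapCone (Groth.L19.Approx.factorCone a g)
  haveI : IsConnected (Groth.L19.Approx.Idx a (⊤ : MorphismProperty Scheme.{u}))ᵒᵖ := IsCofiltered.isConnected _
  have hc₀ : IsLimit c₀ := isLimitOfPreserves _ (Groth.L19.Approx.nonempty_isLimit_factorCone a g).some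
  haveI hA : ∀ {i j} (t : i ⟶ j), IsAffineHom (D₀.map t) := fun t => Groth.L19.Approx.isAffineHom_factorSystem_map a g t
  haveI hC₀ : ∀ i, CompactSpace (D₀.obj i) := Groth.L19.Approx.compactSpace_factorSystem a g
  haveI hQ₀ : ∀ i, QuasiSeparatedSpace (D₀.obj i) := Groth.L19.Approx.quasiSeparatedSpace_factorSystem a g
  haveI hπ : ∀ i, IsAffineHom (c₀.π.app i) := Groth.L19.Approx.isAffineHom_factorCone_π a g
  have sep : ∀ {A B : Scheme.{u}} (q : A ⟶ B), IsAffineHom q → IsSeparated q := fun q h => by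
    haveI := h; infer_instance
  obtain ⟨i₁, hi₁⟩ := Groth.L19.Approx.exists_factorSystem_isSeparated a g
  let Dd := imgDiag D₀ c₀
  let cd := imgCone D₀ c₀
  have hcd : IsLimit cd := isLimitImgCone hc₀
  haveI hAd : ∀ {i j} (t : i ⟶ j), IsAffineHom (Dd.map t) := fun t => isAffineHom_imgDiag_map t
  haveI hC : ∀ i, CompactSpace (Dd.obj i) := fun i =>
    QuasiCompact.compactSpace_of_compactSpace (c₀.π.app i).imageι
  haveI hQ : ∀ i, QuasiSeparatedSpace (Dd.obj i) := fun i =>
    quasiSeparatedSpace_of_quasiSeparated (c₀.π.app i).imageι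
  have hdomπ : ∀ i, IsSchemeTheoreticallyDominant (cd.π.app i) := fun i => dominant_toImage (c₀.π.app i)
  let p : ∀ i, Dd.obj i ⟶ S := fun i => (c₀.π.app i).imageι ≫ (F.obj i).hom
  have hp : ∀ {i j} (t : i ⟶ j), Dd.map t ≫ p j = p i := fun {i j} t => by
    refine (Category.assoc _ _ _).symm.trans ?_
    refine (congrArg (· ≫ (F.obj j).hom) ((imgι D₀ c₀).naturality t)).trans ?_
    refine (Category.assoc _ _ _).trans ?_
    exact congrArg ((c₀.π.app i).imageι ≫ ·) (Over.w (F.map t))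
  have hpπ : ∀ i, cd.π.app i ≫ p i = f := fun i => by
    refine (Category.assoc _ _ _).symm.trans ((congrArg (· ≫ (F.obj i).hom) (Scheme.Hom.toImage_imageι (c₀.π.app i))).trans ?_)
    exact (Over.w ((Groth.L19.Approx.factorCone a g).π.app i)).trans hag
  obtain ⟨i₂, K, hKfg, hKX⟩ := Groth.L19.Approx.exists_fgOn_stage hcd IX fun V _ => (LocFG.of_isEffCartier hX).fg V
  have hKfg' : LocFG K := fun x => by
    obtain ⟨_, ⟨U, hU, rfl⟩, hxU, -⟩ :=
      (Dd.obj i₂).isBasis_affineOpens.exists_subset_of_mem_open (Set.mem_univ x) isOpen_univ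
    exact ⟨⟨U, hU⟩, hxU, hKfg ⟨U, hU⟩ le_top⟩
  obtain ⟨l, t, hl⟩ := exists_effCartier_stage hcd hdomπ K hKfg' (by rw [hKX]; exact hX)
  obtain ⟨j₀, t', ht'⟩ := exists_le_comap_stage hcd (K.comap (Dd.map t)) (IS.comap (p l)) (hKfg'.comap _) (by
    rw [← Scheme.IdealSheafData.comap_comp, ← Scheme.IdealSheafData.comap_comp, cd.w, hKX, hpπ]
    exact hf)
  obtain ⟨k, u₁, u₂, -⟩ := IsCofilteredOrEmpty.cone_objs j₀ i₁
  let DO : Over k ⥤ Over S :=
    { obj := fun j => Over.mk (p j.left)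
      map := fun m => Over.homMk (Dd.map m.left) (hp m.left)
      map_id := fun j => Over.OverMorphism.ext (Dd.map_id j.left)
      map_comp := fun m m' => Over.OverMorphism.ext (Dd.map_comp m.left m'.left) }
  let cO : Cone DO :=
    { pt := Over.mk f
      π :=
        { app := fun j => Over.homMk (cd.π.app j.left) (hpπ j.left)
          naturality := fun i j m => Over.OverMorphism.ext (cd.π.naturality m.left) } }
  haveI : IsConnected (Over k) := IsCofiltered.isConnected _
  have hcO : IsLimit cO := isLimitOfReflects (Over.forget S)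
    (show IsLimit (cd.whisker (Over.forget k)) from (Functor.Initial.isLimitWhiskerEquiv (Over.forget k) cd).symm hcd)
  refine ⟨Over k, inferInstance, inferInstance, DO, cO, hcO, Iso.refl _,
    fun j => K.comap (Dd.map (j.hom ≫ u₁ ≫ t' ≫ t)), fun j => ?_, fun j => ⟨?_, ?_, ?_⟩, fun j => ?_,
    fun i j m => ⟨hAd m.left, ?_, ?_⟩, fun j => ?_⟩
  · have := hl j.left (j.hom ≫ u₁ ≫ t')
    simpa only [Category.assoc] using this
  · haveI := Groth.L19.Approx.lfp_factorSystem a g j.left
    exact inferInstanceAs (LocallyOfFiniteType ((c₀.π.app j.left).imageι ≫ (F.obj j.left).hom))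
  · exact quasiCompact_of_compactSpace (p j.left)
  · haveI : IsSeparated (F.obj j.left).hom := by
      haveI := hA (j.hom ≫ u₂)
      haveI := hi₁
      rw [← Over.w (F.map (j.hom ≫ u₂))]
      exact MorphismProperty.comp_mem @IsSeparated (D₀.map (j.hom ≫ u₂)) (F.obj i₁).hom (sep _ (hA _)) hi₁
    exact inferInstanceAs (IsSeparated ((c₀.π.app j.left).imageι ≫ (F.obj j.left).hom))
  · show K.comap (Dd.map (j.hom ≫ u₁ ≫ t' ≫ t)) ≤ IS.comap (p j.left)
    rw [← hp (j.hom ≫ u₁ ≫ t'), show Dd.map (j.hom ≫ u₁ ≫ t' ≫ t) = Dd.map (j.hom ≫ u₁) ≫ Dd.map t' ≫ Dd.map t by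
      simp [Functor.map_comp], show Dd.map (j.hom ≫ u₁ ≫ t') = Dd.map (j.hom ≫ u₁) ≫ Dd.map t' by
      simp [Functor.map_comp]]
    simp only [Scheme.IdealSheafData.comap_comp]
    exact Scheme.IdealSheafData.comap_mono _ ht'
  · show K.comap (Dd.map (i.hom ≫ u₁ ≫ t' ≫ t)) = (K.comap (Dd.map (j.hom ≫ u₁ ≫ t' ≫ t))).comap (Dd.map m.left)
    rw [← Scheme.IdealSheafData.comap_comp, ← Dd.map_comp, Over.w_assoc m]
  · exact dominant_imgDiag_map m.left
  · show IX = (K.comap (Dd.map (j.hom ≫ u₁ ≫ t' ≫ t))).comap (𝟙 X ≫ cd.π.app j.left)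
    rw [Category.id_comp, ← Scheme.IdealSheafData.comap_comp, cd.w, hKX]

end Groth.L13.FtLimit
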