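import Groth.Agent.L13.FtLimit.Invertible
import Groth.Agent.L13.PairColim.Base

/-! Effective Cartier ideals on a limit with dominant projections come from a stage; image systems. -/

set_option autoImplicit false
set_option linter.style.haveILetI false
set_option backward.isDefEq.respectTransparency false

universe u

open CategoryTheory CategoryTheory.Limits AlgebraicGeometry TopologicalSpace Opposite

namespace Groth.L13.FtLimit

open Groth.L22 Groth.L13.MP

variable {I : Type u} [SmallCategory I] [IsCofiltered I] {D : I ⥤ Scheme.{u}} {c : Cone D}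
  [∀ {i j} (f : i ⟶ j), IsAffineHom (D.map f)]

/-- an ideal becoming effective Cartier on a limit with dominant projections is so at all late stages -/
theorem exists_effCartier_stage (hc : IsLimit c) [∀ i, CompactSpace (D.obj i)] [∀ i, QuasiSeparatedSpace (D.obj i)]
    (hdom : ∀ i, IsSchemeTheoreticallyDominant (c.π.app i)) {i : I} (K : (D.obj i).IdealSheafData) (hK : LocFG K)
    (h : BlowUp.IsEffCartierIdeal (K.comap (c.π.app i))) :
    ∃ (l : I) (t : l ⟶ i), ∀ (j : I) (s : j ⟶ l), BlowUp.IsEffCartierIdeal (K.comap (D.map (s ≫ t))) := by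
  classical
  haveI := fun i => isAffineHom_π_app D c hc i
  haveI := hdom
  obtain ⟨S, hS, hcov⟩ := Groth.L19.Approx.exists_finite_affineOpens (U := (⊤ : (D.obj i).Opens)) isCompact_univ
  haveI := hS.to_subtype
  haveI := Fintype.ofFinite S
  choose G hG using fun U : S => hK.fg U.1
  let W : S → c.pt.affineOpens := fun U => ⟨_, U.1.2.preimage (c.π.app i)⟩
  let fW : ∀ U : S, G U → Γ(c.pt, (W U).1) := fun U p => (c.π.app i).appLE U.1.1 (W U).1 le_rfl p.1
  have hfW : ∀ U : S, Ideal.span (Set.range (fW U)) = (K.comap (c.π.app i)).ideal (W U) := fun U => by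
    rw [Ideals.comap_ideal (c.π.app i) K U.1 (W U) le_rfl, ← hG U, Ideal.map_span]
    congr 1
    ext z
    simp [fW]
  choose a cc hd using fun U : S => exists_invData h (W U) (fW U) (hfW U)
  choose ja hja va hva using fun σ : (U : S) × (G U) => Groth.L19.Approx.exists_appLE_eq hc i σ.1.1.2 (a σ.1 σ.2)
  choose jc hjc vc hvc using fun σ : (U : S) × (G U) × (G U) =>
    Groth.L19.Approx.exists_appLE_eq hc i σ.1.1.2 (cc σ.1 σ.2.1 σ.2.2)
  obtain ⟨l, hl⟩ := IsCofiltered.inf_objs_exists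
    (insert (Over.mk (𝟙 i)) (Finset.univ.image ja ∪ Finset.univ.image jc))
  refine ⟨l.left, l.hom, fun j s => ?_⟩
  let o : Over i := Over.mk (s ≫ l.hom)
  let V : ∀ U : S, (D.obj j).affineOpens := fun U => ⟨_, U.1.2.preimage (D.map o.hom)⟩
  have hWV : ∀ U : S, (W U).1 ≤ c.π.app j ⁻¹ᵁ (V U).1 := fun U => by
    show c.π.app i ⁻¹ᵁ _ ≤ c.π.app j ⁻¹ᵁ (D.map o.hom ⁻¹ᵁ _)
    rw [← Scheme.Hom.comp_preimage, c.w]
  let φ : ∀ U : S, Γ(D.obj j, (V U).1) →+* Γ(c.pt, (W U).1) := fun U =>
    ((c.π.app j).appLE (V U).1 (W U).1 (hWV U)).hom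
  have hφ : ∀ U : S, Function.Injective (φ U) := fun U => by
    have e : (W U).1 = c.π.app j ⁻¹ᵁ (V U).1 := by
      show c.π.app i ⁻¹ᵁ _ = c.π.app j ⁻¹ᵁ (D.map o.hom ⁻¹ᵁ _)
      rw [← Scheme.Hom.comp_preimage, c.w]
    have key : ∀ (O : c.pt.Opens) (hO : O = c.π.app j ⁻¹ᵁ (V U).1),
        Function.Injective ((c.π.app j).appLE (V U).1 O hO.le) := by
      rintro _ rfl
      rw [← Scheme.Hom.app_eq_appLE]
      exact (c.π.app j).app_injective _
    exact key _ e
  have push : ∀ (U : S) (b : Over i), b ∈ insert (Over.mk (𝟙 i)) (Finset.univ.image ja ∪ Finset.univ.image jc) →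
      ∀ (hb : c.π.app i ⁻¹ᵁ U.1.1 ≤ c.π.app b.left ⁻¹ᵁ (D.map b.hom ⁻¹ᵁ U.1.1))
        (v : Γ(D.obj b.left, D.map b.hom ⁻¹ᵁ U.1.1)),
        ∃ v' : Γ(D.obj j, (V U).1), φ U v' =
          (c.π.app b.left).appLE (D.map b.hom ⁻¹ᵁ U.1.1) (c.π.app i ⁻¹ᵁ U.1.1) hb v := by
    intro U b hb hb' v
    obtain ⟨m⟩ := hl hb
    have hle : (V U).1 ≤ D.map (s ≫ m.left) ⁻¹ᵁ (D.map b.hom ⁻¹ᵁ U.1.1) := by
      show D.map o.hom ⁻¹ᵁ _ ≤ _
      rw [← Scheme.Hom.comp_preimage, ← D.map_comp, Category.assoc, Over.w m]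
      exact le_rfl
    exact ⟨(D.map (s ≫ m.left)).appLE _ (V U).1 hle v, MP.appLE_comp_apply _ _ (c.w (s ≫ m.left)) _ _ _ _⟩
  let f : ∀ U : S, G U → Γ(D.obj j, (V U).1) := fun U p => (D.map o.hom).appLE U.1.1 (V U).1 le_rfl p.1
  have hf : ∀ U p, φ U (f U p) = fW U p := fun U p => MP.appLE_comp_apply _ _ (c.w o.hom) _ _ _ _
  choose a' ha' using fun σ : (U : S) × (G U) =>
    push σ.1 (ja σ) (by simp) (hja σ) (va σ)
  choose c' hc' using fun σ : (U : S) × (G U) × (G U) =>
    push σ.1 (jc σ) (by simp) (hjc σ) (vc σ)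
  intro x
  obtain ⟨U, hU⟩ := Opens.mem_iSup.1 (show x ∈ ⨆ U : S, (V U).1 by
    show x ∈ ⨆ U : S, D.map o.hom ⁻¹ᵁ U.1.1
    rw [← Scheme.Hom.preimage_iSup, ← hcov]
    trivial)
  refine exists_nhd_of_invData (V U) (f U) (fun p => a' ⟨U, p⟩) (fun p q => c' ⟨U, p, q⟩)
    (InvData.of_injective (φ U) (hφ U) ?_) ?_ (faithful_of_injective (φ U) (hφ U) ?_) hU
  · have e1 : φ U ∘ f U = fW U := funext (hf U)
    have e2 : φ U ∘ (fun p => a' ⟨U, p⟩) = a U := funext fun p => (ha' ⟨U, p⟩).trans (hva ⟨U, p⟩)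
    have e3 : (fun p q => φ U (c' ⟨U, p, q⟩)) = cc U :=
      funext₂ fun p q => (hc' ⟨U, p, q⟩).trans (hvc ⟨U, p, q⟩)
    rw [e1, e2, e3]
    exact hd U
  · show Ideal.span (Set.range (f U)) = (K.comap (D.map o.hom)).ideal (V U)
    rw [Ideals.comap_ideal (D.map o.hom) K U.1 (V U) le_rfl, ← hG U, Ideal.map_span]
    congr 1
    ext z
    simp [f]
  · intro b hb
    exact faithful_of_effCartier h (W U) (fW U) (hfW U) b fun p => by rw [← hf U p]; exact hb p

section Image

variable (D c)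

/-- the scheme-theoretic images of the projections -/
noncomputable def imgDiag : I ⥤ Scheme.{u} where
  obj i := (c.π.app i).image
  map {i j} t := IsClosedImmersion.lift (c.π.app j).imageι ((c.π.app i).imageι ≫ D.map t) (by
    rw [Scheme.Hom.ker_comp, Scheme.IdealSheafData.ker_subschemeι, Scheme.IdealSheafData.ker_subschemeι,
      ← Scheme.Hom.ker_comp, c.w])
  map_id i := by rw [← cancel_mono (c.π.app i).imageι, IsClosedImmersion.lift_fac]; simp
  map_comp {i j k} s t := by
    rw [← cancel_mono (c.π.app k).imageι, Category.assoc, IsClosedImmersion.lift_fac, IsClosedImmersion.lift_fac,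
      IsClosedImmersion.lift_fac_assoc, Functor.map_comp, Category.assoc]

noncomputable def imgι : imgDiag D c ⟶ D where
  app i := (c.π.app i).imageι
  naturality _ _ _ := IsClosedImmersion.lift_fac _ _ _

instance (i : I) : IsClosedImmersion ((imgι D c).app i) := inferInstanceAs (IsClosedImmersion (c.π.app i).imageι)

noncomputable def imgCone : Cone (imgDiag D c) where
  pt := c.pt
  π :=
    { app := fun i => (c.π.app i).toImage
      naturality := fun i j t => by
        show 𝟙 _ ≫ _ = _ ≫ IsClosedImmersion.lift _ _ _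
        rw [← cancel_mono (c.π.app j).imageι, Category.assoc, Category.assoc, IsClosedImmersion.lift_fac,
          Scheme.Hom.toImage_imageι, Category.id_comp, Scheme.Hom.toImage_imageι_assoc, c.w] }

variable {D c}

noncomputable def isLimitImgCone (hc : IsLimit c) : IsLimit (imgCone D c) :=
  haveI : IsClosedImmersion (𝟙 c.pt : (imgCone D c).pt ⟶ c.pt) := inferInstanceAs (IsClosedImmersion (𝟙 c.pt))
  PairColim.isLimitClosed (imgι D c) hc (imgCone D c) (𝟙 c.pt)
    (fun i => (Scheme.Hom.toImage_imageι (c.π.app i)).trans (Category.id_comp _).symm)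
    (by rw [Scheme.Hom.ker_eq_bot (𝟙 c.pt)]; exact bot_le)

omit [IsCofiltered I] in
theorem isAffineHom_imgDiag_map {i j : I} (t : i ⟶ j) : IsAffineHom ((imgDiag D c).map t) := by
  haveI : IsAffineHom ((imgDiag D c).map t ≫ (imgι D c).app j) := by
    rw [(imgι D c).naturality t]
    infer_instance
  exact IsAffineHom.of_comp _ ((imgι D c).app j)

omit [∀ {i j} (f : i ⟶ j), IsAffineHom (D.map f)] [IsCofiltered I] in
theorem dominant_imgDiag_map [∀ i, QuasiCompact (c.π.app i)] {i j : I} (t : i ⟶ j) :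
    IsSchemeTheoreticallyDominant ((imgDiag D c).map t) := by
  haveI := dominant_toImage (c.π.app j)
  refine ⟨le_bot_iff.1 ?_⟩
  rw [← (c.π.app j).toImage.ker_eq_bot,
    show (c.π.app j).toImage = (c.π.app i).toImage ≫ (imgDiag D c).map t from ((imgCone D c).w t).symm]
  exact Scheme.Hom.le_ker_comp _ _

end Image

end Groth.L13.FtLimit
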